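import Groth.Agent.Pi1.K260.D1Plan
import Groth.Agent.Subtr.K835.Stage
import Groth.Agent.AlgSp.K601.PbDiag
import Groth.Agent.Pi1A.FEtLimit
import Groth.Agent.Pi1.H416.SepField
import Groth.Agent.S0240

/-!
# Coverings of the closed fibre of an integral scheme over a proper one have sections
-/

set_option autoImplicit false
universe u

open CategoryTheory CategoryTheory.Limits AlgebraicGeometry IsLocalRing

namespace K261.D1Nc

open Groth.Agent Groth.Agent.Etrest.StrictLoc

/-- An isomorphism with a base change gives a cartesian square. -/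
theorem exists_isPullback {X Y : Scheme.{u}} (f : X ⟶ Y) (W : FEt.Cat Y) (V : FEt.Cat X)
    (e : (FEt.restrict f).obj W ≅ V) : ∃ g : V.left ⟶ W.left, IsPullback g V.hom W.hom f := by
  have h : IsPullback (pullback.fst W.hom f) (pullback.snd W.hom f) W.hom f := IsPullback.of_hasPullback _ _
  let e' : V.left ≅ pullback W.hom f :=
    { hom := e.inv.left
      inv := e.hom.left
      hom_inv_id := by
        have := congrArg (fun a => a.left) e.inv_hom_id
        exact this
      inv_hom_id := by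
        have := congrArg (fun a => a.left) e.hom_inv_id
        exact this }
  refine ⟨e'.hom ≫ pullback.fst W.hom f, ?_⟩
  have h1 : e'.hom ≫ pullback.snd W.hom f = V.hom := Over.w e.inv.hom
  refine IsPullback.of_iso h e'.symm (Iso.refl _) (Iso.refl _) (Iso.refl _) ?_ ?_ ?_ ?_
  · simp
  · rw [← h1]; simp
  · simp
  · simp

theorem nc : K260.D1.NC.{u} := by
  intro R _ _ hR Z T p hp t ht hsec Ts i q hpb P π hπf hπe hπs
  have hZc : CompactSpace Z := QuasiCompact.compactSpace_of_compactSpace p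
  have hZq : QuasiSeparatedSpace Z := quasiSeparatedSpace_of_quasiSeparated p
  obtain ⟨I, _, _, D, c, hc, tt, iso, hD, hDt, hct, hfin⟩ := K835.Stage.integral_limit t
  have h0 : ∀ a, IsFinite (tt a) := fun a => (hfin a).1
  have h2 : ∀ a, CompactSpace (D.obj a) := fun a => QuasiCompact.compactSpace_of_compactSpace (tt a)
  have h3 : ∀ a, QuasiSeparatedSpace (D.obj a) := fun a => quasiSeparatedSpace_of_quasiSeparated (tt a)
  obtain ⟨a₀⟩ := IsCofiltered.nonempty (C := I)
  have hcl : IsClosedImmersion (resPt R) := IsClosedImmersion.spec_of_surjective _ IsLocalRing.residue_surjective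
  let g : pullback (tt a₀ ≫ p) (resPt R) ⟶ D.obj a₀ := pullback.fst _ _
  have hg : IsClosedImmersion g := inferInstance
  have e0 : (i ≫ iso.inv) ≫ c.π.app a₀ ≫ tt a₀ ≫ p = q ≫ resPt R := by
    rw [← Category.assoc (c.π.app a₀), hct, Category.assoc, Category.assoc, Iso.inv_hom_id_assoc, hpb.w]
  let q' : Ts ⟶ pullback (tt a₀ ≫ p) (resPt R) :=
    pullback.lift ((i ≫ iso.inv) ≫ c.π.app a₀) q (by rw [Category.assoc]; exact e0)
  have hq'₁ : q' ≫ g = (i ≫ iso.inv) ≫ c.π.app a₀ := pullback.lift_fst _ _ _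
  have hq'₂ : q' ≫ pullback.snd (tt a₀ ≫ p) (resPt R) = q := pullback.lift_snd _ _ _
  have hq' : IsPullback q' (i ≫ iso.inv) g (c.π.app a₀) := by
    refine IsPullback.of_right (h₁₂ := pullback.snd (tt a₀ ≫ p) (resPt R)) (v₁₃ := resPt R)
      (h₂₂ := tt a₀ ≫ p) ?_ hq'₁ (IsPullback.of_hasPullback _ _).flip
    rw [hq'₂]
    refine IsPullback.flip ?_
    refine IsPullback.of_iso hpb (Iso.refl _) iso.symm (Iso.refl _) (Iso.refl _) ?_ ?_ ?_ ?_
    · simp
    · simp
    · rw [Iso.symm_hom, Iso.refl_hom, Category.comp_id, ← Category.assoc (c.π.app a₀), hct, Category.assoc,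
        Iso.inv_hom_id_assoc]
    · simp
  have hlim := K601.PbDiag.isLimitPbCone a₀ g c hc q' (i ≫ iso.inv) hq'
  have hpbD : ∀ φ : Over a₀, IsClosedImmersion (pullback.snd g (D.map φ.hom)) := fun φ => inferInstance
  have i₁ : ∀ (φ ψ : Over a₀) (h : φ ⟶ ψ), IsAffineHom ((K601.PbDiag.pbDiag D a₀ g).map h) := fun φ ψ h => by
    have := hD _ _ h.left
    exact MorphismProperty.of_isPullback (P := @IsAffineHom) (K601.PbDiag.isPullback_pbDiag_map D a₀ g h).flip
      this
  have i₂ : ∀ φ : Over a₀, CompactSpace ((K601.PbDiag.pbDiag D a₀ g).obj φ) := fun φ => by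
    have h := hpbD φ
    have h' : CompactSpace ↥(pullback g (D.map φ.hom)) :=
      QuasiCompact.compactSpace_of_compactSpace (pullback.snd g (D.map φ.hom))
    exact h'
  have i₃ : ∀ φ : Over a₀, QuasiSeparatedSpace ((K601.PbDiag.pbDiag D a₀ g).obj φ) := fun φ => by
    have h := hpbD φ
    have h' : QuasiSeparatedSpace ↥(pullback g (D.map φ.hom)) :=
      quasiSeparatedSpace_of_quasiSeparated (pullback.snd g (D.map φ.hom))
    exact h'
  let V : FEt.Cat Ts := MorphismProperty.Over.mk ⊤ π ⟨hπf, hπe⟩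
  obtain ⟨φ, W, ⟨e⟩⟩ := Pi1A.FEtLimit.exists_obj hlim V
  obtain ⟨g1, hg1⟩ := exists_isPullback _ W V e
  let s₁ : pullback g (D.map φ.hom) ⟶ D.obj φ.left := pullback.snd _ _
  have h4 : IsPullback s₁ (pullback.fst g (D.map φ.hom) ≫ pullback.snd (tt a₀ ≫ p) (resPt R)) (tt φ.left ≫ p)
      (resPt R) := by
    have h5 := (IsPullback.of_hasPullback g (D.map φ.hom)).paste_horiz
      (IsPullback.of_hasPullback (tt a₀ ≫ p) (resPt R)).flip
    have h7 : D.map φ.hom ≫ tt a₀ ≫ p = tt φ.left ≫ p := by rw [← Category.assoc, hDt]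
    rw [← h7]
    exact h5.flip
  have hpr : IsProper (tt φ.left ≫ p) := inferInstance
  have h6 : (FEt.restrict s₁).IsEquivalence :=
    Pi1.H416.SepField.isEquivalence_of_isPullback h4 (S0240.result R (tt φ.left ≫ p))
  obtain ⟨W', ⟨e'⟩⟩ : ∃ W' : FEt.Cat (D.obj φ.left), Nonempty ((FEt.restrict s₁).obj W' ≅ W) :=
    ⟨_, ⟨(FEt.restrict s₁).objObjPreimageIso W⟩⟩
  obtain ⟨g2, hg2⟩ := exists_isPullback _ W' W e'
  have hP := hg1.paste_horiz hg2
  have hb : (K601.PbDiag.pbCone a₀ g c q' (i ≫ iso.inv) hq'.toCommSq).π.app φ ≫ s₁ =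
      (i ≫ iso.inv) ≫ c.π.app φ.left := pullback.lift_snd _ _ _
  obtain ⟨gg, hP'⟩ : ∃ gg : P ⟶ W'.left, IsPullback gg π W'.hom ((i ≫ iso.inv) ≫ c.π.app φ.left) := by
    refine ⟨g1 ≫ g2, ?_⟩
    have := hP
    erw [hb] at this
    exact this
  have hWf : IsFinite W'.hom := W'.prop.1
  have hWe : Etale W'.hom := W'.prop.2
  let πQ : pullback W'.hom (c.π.app φ.left) ⟶ T := pullback.snd _ _ ≫ iso.hom
  have hQf : IsFinite πQ := inferInstance
  have hQe : Etale πQ := inferInstance
  -- the point of the closed fibre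
  have hmem : ∀ x : Ts, i x ∈ Set.range πQ := by
    intro x
    obtain ⟨z, rfl⟩ := hπs.surj x
    have hw : gg ≫ W'.hom = (π ≫ i ≫ iso.inv) ≫ c.π.app φ.left := by
      rw [hP'.w]
      simp only [Category.assoc]
    have h8 : pullback.lift gg (π ≫ i ≫ iso.inv) hw ≫ πQ = π ≫ i := by
      rw [pullback.lift_snd_assoc, Category.assoc, Category.assoc, Iso.inv_hom_id, Category.comp_id]
    exact ⟨pullback.lift gg (π ≫ i ≫ iso.inv) hw z, congrArg (fun f : P ⟶ T => f z) h8⟩
  have hopen : IsOpen (Set.range πQ) := πQ.isOpenMap.isOpen_range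
  have hQs : Surjective πQ := by
    refine ⟨fun y => ?_⟩
    by_contra hy
    have h9 : IsClosedMap (t ≫ p) := (t ≫ p).isClosedMap
    have h10 := h9 _ hopen.isClosed_compl
    have h11 : closedPoint R ∈ (t ≫ p) '' (Set.range πQ)ᶜ :=
      (IsLocalRing.specializes_closedPoint ((t ≫ p) y)).mem_closed h10 ⟨y, hy, rfl⟩
    obtain ⟨y', hy', hy''⟩ := h11
    have h12 : y' ∈ Set.range i := by
      have h14 : Set.range i = (t ≫ p) ⁻¹' Set.range (resPt R) := by
        rw [← Scheme.Pullback.range_fst]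
        ext x
        constructor
        · rintro ⟨z, rfl⟩
          exact ⟨hpb.isoPullback.hom z, congrArg (fun f : Ts ⟶ T => f z) hpb.isoPullback_hom_fst⟩
        · rintro ⟨w, rfl⟩
          exact ⟨hpb.isoPullback.inv w,
            congrArg (fun f : pullback (t ≫ p) (resPt R) ⟶ T => f w) hpb.isoPullback_inv_fst⟩
      rw [h14]
      exact ⟨default, (resPt_closedPoint R _).trans hy''.symm⟩
    obtain ⟨x, rfl⟩ := h12
    exact hy' (hmem x)
  obtain ⟨s, hs⟩ := hsec πQ hQf hQe hQs
  refine ⟨hP'.lift (i ≫ s ≫ pullback.fst _ _) (𝟙 Ts) ?_, hP'.lift_snd _ _ _⟩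
  have h13 : s ≫ pullback.snd W'.hom (c.π.app φ.left) = iso.inv := by
    rw [← cancel_mono iso.hom, Category.assoc, Iso.inv_hom_id]
    exact hs
  rw [Category.assoc, Category.assoc, pullback.condition, ← Category.assoc s, h13, Category.id_comp, Category.assoc]

end K261.D1Nc
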